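import Cfsg.Agent.Lib.JankoOne.Cert.Check
import Cfsg.Agent.Lib.JankoOne.Data.Case2

/-! The kernel check of a coset enumeration certificate. -/

set_option autoImplicit false

namespace Cfsg.Agent.JankoOne.Cert

/-- The certificate. -/
def cert2 : Cert := ⟨Data.Case2.claims, Data.Case2.steps, Data.baseRels ++ [Data.Case2.rel]⟩

theorem cert2_ok : cert2.ok Data.Case2.size = true := by decide +kernel

end Cfsg.Agent.JankoOne.Cert
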