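import Cfsg.Agent.Lib.JankoOne.Model
import Cfsg.Agent.Lib.JankoOne.Data.Model
import Mathlib.Data.List.Rotate
import Mathlib.Data.List.GetD
import Mathlib.Algebra.BigOperators.Group.List.Basic

/-!
A checker for proofs produced by coset enumeration in an amalgam over the model `Z₂ × A₅`: every fact says
`r p * gen = el c * r q` for coset representatives `r`.
-/

set_option autoImplicit false

namespace Cfsg.Agent.JankoOne.Cert

open Data

section Words

variable {G : Type*} [Group G]

/-- The value of a letter. -/
def letterVal (gv : ℕ → G) (l : ℕ) : G :=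
  if l % 2 = 0 then gv (l / 2) else (gv (l / 2))⁻¹

/-- The value of a word. -/
def evalWord (gv : ℕ → G) : List ℕ → G
  | [] => 1
  | l :: w => letterVal gv l * evalWord gv w

/-- The formal inverse of a letter. -/
def invLetter (l : ℕ) : ℕ := if l % 2 = 0 then l + 1 else l - 1

/-- The formal inverse of a word. -/
def invWord (w : List ℕ) : List ℕ := (w.map invLetter).reverse

theorem evalWord_append (gv : ℕ → G) (v w : List ℕ) :
    evalWord gv (v ++ w) = evalWord gv v * evalWord gv w := by
  induction v with
  | nil => rw [List.nil_append, evalWord, one_mul]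
  | cons l v ih => rw [List.cons_append, evalWord, evalWord, ih, mul_assoc]

theorem letterVal_inv (gv : ℕ → G) (l : ℕ) : letterVal gv (invLetter l) = (letterVal gv l)⁻¹ := by
  unfold letterVal invLetter
  rcases Nat.mod_two_eq_zero_or_one l with h | h
  · rw [if_pos h, if_neg (by omega), if_pos h, show (l + 1) / 2 = l / 2 by omega]
  · rw [if_neg (by omega : ¬ l % 2 = 0), if_pos (by omega), if_neg (by omega : ¬ l % 2 = 0),
      show (l - 1) / 2 = l / 2 by omega, inv_inv]

theorem evalWord_invWord (gv : ℕ → G) (w : List ℕ) : evalWord gv (invWord w) = (evalWord gv w)⁻¹ := by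
  induction w with
  | nil => simp [invWord, evalWord]
  | cons l w ih =>
    rw [invWord, List.map_cons, List.reverse_cons, ← invWord, evalWord_append, ih, evalWord, evalWord,
      evalWord, letterVal_inv, mul_one, mul_inv_rev]

theorem evalWord_rotate (gv : ℕ → G) {w : List ℕ} (h : evalWord gv w = 1) (k : ℕ) :
    evalWord gv (w.rotate k) = 1 := by
  induction k with
  | zero => rwa [List.rotate_zero]
  | succ k ih =>
    rw [← List.rotate_rotate w k 1]
    cases hw : w.rotate k with
    | nil => rfl
    | cons a v =>
      rw [List.rotate_cons_succ, List.rotate_zero, evalWord_append, evalWord, evalWord, mul_one]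
      rw [hw, evalWord] at ih
      exact mul_eq_one_comm.1 ih

theorem evalWord_map {H : Type*} [Group H] (f : G →* H) (gv : ℕ → G) (gw : ℕ → H) {w : List ℕ}
    (h : ∀ l ∈ w, f (gv (l / 2)) = gw (l / 2)) : f (evalWord gv w) = evalWord gw w := by
  induction w with
  | nil => exact map_one f
  | cons l w ih =>
    rw [evalWord, evalWord, map_mul, ih fun m hm => h m (List.mem_cons_of_mem _ hm)]
    congr 1
    have hl := h l List.mem_cons_self
    unfold letterVal
    split <;> simp [hl]

end Words

/-- The model generator `q`, the 5-cycle `(0 3 2 1 4)`. -/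
def q5 : A5 := ⟨Equiv.swap 0 3 * Equiv.swap 3 2 * Equiv.swap 2 1 * Equiv.swap 1 4,
  Equiv.Perm.mem_alternatingGroup.2 (by decide +kernel)⟩

/-- The generators of the model. -/
def gM : ℕ → M
  | 0 => tM
  | 1 => (1, x5)
  | 2 => (1, q5)
  | _ => 1

/-- The elements of the model. -/
def el (i : ℕ) : M := evalWord gM (elWords.getD i [])

/-- The multiplication table. -/
def mulT (i j : ℕ) : ℕ := (mulRows.getD i 0 >>> (8 * j)) % 256

/-- The table of inverses. -/
def invT (i : ℕ) : ℕ := (invRow >>> (8 * i)) % 256

/-- The index of a generator. -/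
def genIdx : ℕ → ℕ
  | 0 => 60
  | 1 => 15
  | _ => 46

theorem el_zero : el 0 = 1 := rfl

theorem el_gen : ∀ g : Fin 3, el (genIdx g) = gM g := by decide +kernel

theorem el_mul : ∀ i : Fin 120, ∀ j : Fin 120, el i * el j = el (mulT i j) ∧ mulT i j < 120 := by
  decide +kernel

theorem el_inv : ∀ i : Fin 120, (el i)⁻¹ = el (invT i) ∧ invT i < 120 := by decide +kernel

theorem el_bij : (∀ i : Fin 120, ∀ j : Fin 120, el i = el j → i = j) := by decide +kernel

/-- A justified list of facts. -/
structure Cert where
  /-- The facts. -/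
  claims : List (List ℕ)
  /-- Their justifications. -/
  steps : List (List ℕ)
  /-- The relators. -/
  rels : List (List ℕ)

/-- The data of one fact. -/
structure Fact where
  /-- The source. -/
  src : ℕ
  /-- The target. -/
  tgt : ℕ
  /-- The generator, or 4 for none. -/
  gen : ℕ
  /-- The element of the model. -/
  lab : ℕ

/-- Decoding a fact. -/
def decode (v : ℕ) : Fact := ⟨v % 16384, (v >>> 14) % 16384, (v >>> 28) % 8, (v >>> 31) % 128⟩

/-- The `i`-th fact. -/
def Cert.fact (K : Cert) (i : ℕ) : Fact :=
  decode ((K.claims.getD (i / 512) []).getD (i / 32 % 16) 0 >>> (38 * (i % 32)) % 2 ^ 38)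

/-- The word of a generator used in a direction. -/
def stepWord (g d : ℕ) : List ℕ := if g < 4 then [2 * g + d] else []

/-- A path through facts: the end, the label and the word. -/
def Cert.walk (K : Cert) (i v : ℕ) : ℕ → ℕ → ℕ → List ℕ → Option (ℕ × ℕ × List ℕ)
  | 0, cur, lab, w => some (cur, lab, w)
  | m + 1, cur, lab, w =>
    let r := v % 32768
    let f := K.fact (r / 2)
    if r / 2 < i then
      if r % 2 = 0 then
        if f.src = cur then K.walk i (v >>> 15) m f.tgt (mulT lab f.lab) (w ++ stepWord f.gen 0) else none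
      else
        if f.tgt = cur then K.walk i (v >>> 15) m f.src (mulT lab (invT f.lab)) (w ++ stepWord f.gen 1) else none
    else none

/-- The check of the `i`-th fact when `cnt` cosets are known; returns the new number of cosets. -/
def Cert.checkOne (K : Cert) (i cnt s : ℕ) : Option ℕ :=
  let f := K.fact i
  if 120 ≤ f.lab then none
  else if s % 4 = 0 then
    if f.src = 0 ∧ f.tgt = 0 ∧ f.gen < 3 ∧ f.lab = genIdx f.gen then some cnt else none
  else if s % 4 = 1 then
    if f.lab = 0 ∧ f.gen < 4 then
      if (s >>> 2) % 2 = 0 then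
        if f.tgt = cnt ∧ f.src < cnt then some (cnt + 1) else none
      else
        if f.src = cnt ∧ f.tgt < cnt then some (cnt + 1) else none
    else none
  else
    let len := (s >>> 15) % 64
    let v := s >>> 21
    let r := v % 32768
    let start := if r % 2 = 0 then (K.fact (r / 2)).src else (K.fact (r / 2)).tgt
    let base := K.rels.getD ((s >>> 2) % 64) []
    let word := (if (s >>> 14) % 2 = 0 then base else invWord base).rotate ((s >>> 8) % 64)
    if len = 0 then none
    else match K.walk i v len start 0 [] with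
      | none => none
      | some (cur, lab, w) =>
        if s % 4 = 3 then
          if w = word ∧ f.gen = 4 ∧ f.src = cur ∧ f.tgt = start ∧ f.lab = invT lab then some cnt else none
        else
          if w ++ [word.getLastD 0] = word ∧ f.gen = word.getLastD 0 / 2 ∧ f.gen < 4 then
            if word.getLastD 0 % 2 = 0 then
              if f.src = cur ∧ f.tgt = start ∧ f.lab = invT lab then some cnt else none
            else
              if f.src = start ∧ f.tgt = cur ∧ f.lab = lab then some cnt else none
          else none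

/-- The check of a list of facts. -/
def Cert.run (K : Cert) : List ℕ → ℕ → ℕ → Option ℕ
  | [], i, _ => some i
  | s :: l, i, cnt =>
    match K.checkOne i cnt s with
    | none => none
    | some c => K.run l (i + 1) c

/-- The check of the whole certificate. -/
def Cert.ok (K : Cert) (size : ℕ) : Bool := K.run K.steps.flatten 0 1 == some size

variable {G : Type*} [Group G]

/-- A valuation of the generators compatible with the model. -/
structure Interp (ι : M →* G) (gv : ℕ → G) (rels : List (List ℕ)) : Prop where
  gen : ∀ g < 3, gv g = ι (el (genIdx g))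
  rel : ∀ w ∈ rels, evalWord gv w = 1

/-- The value of a generator code, the code 4 being trivial. -/
def genVal (gv : ℕ → G) (g : ℕ) : G := if g < 4 then gv g else 1

/-- A fact holds for the given representatives. -/
def Holds (ι : M →* G) (gv : ℕ → G) (R : ℕ → G) (f : Fact) : Prop :=
  R f.src * genVal gv f.gen = ι (el f.lab) * R f.tgt ∧ f.lab < 120

theorem eval_step (gv : ℕ → G) (g : ℕ) : evalWord gv (stepWord g 0) = genVal gv g ∧
    evalWord gv (stepWord g 1) = (genVal gv g)⁻¹ := by
  unfold stepWord genVal
  split
  · simp only [evalWord, letterVal, mul_one]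
    constructor
    · rw [if_pos (by omega), show (2 * g + 0) / 2 = g by omega]
    · rw [if_neg (by omega), show (2 * g + 1) / 2 = g by omega]
  · simp [evalWord]

theorem el_mul' {i j : ℕ} (hi : i < 120) (hj : j < 120) : el i * el j = el (mulT i j) ∧ mulT i j < 120 :=
  el_mul ⟨i, hi⟩ ⟨j, hj⟩

theorem el_inv' {i : ℕ} (hi : i < 120) : (el i)⁻¹ = el (invT i) ∧ invT i < 120 := el_inv ⟨i, hi⟩

theorem walk_sound {ι : M →* G} {gv : ℕ → G} (K : Cert) {i cnt : ℕ} {R : ℕ → G}
    (hR : ∀ k < i, Holds ι gv R (K.fact k) ∧ (K.fact k).src < cnt ∧ (K.fact k).tgt < cnt) :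
    ∀ (m v cur lab : ℕ) (w : List ℕ) (start : ℕ) (res : ℕ × ℕ × List ℕ), lab < 120 → cur < cnt →
      R start * evalWord gv w = ι (el lab) * R cur → K.walk i v m cur lab w = some res →
      R start * evalWord gv res.2.2 = ι (el res.2.1) * R res.1 ∧ res.2.1 < 120 ∧ res.1 < cnt := by
  intro m
  induction m with
  | zero =>
    intro v cur lab w start res hl hc he h
    simp only [Cert.walk, Option.some.injEq] at h
    subst h
    exact ⟨he, hl, hc⟩
  | succ m ih =>
    intro v cur lab w start res hl hc he h
    simp only [Cert.walk] at h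
    split at h
    case isFalse => simp at h
    rename_i hlt
    obtain ⟨⟨hf, hfl⟩, hs, ht⟩ := hR _ hlt
    set f := K.fact (v % 32768 / 2) with hfdef
    split at h
    · split at h
      case isFalse => simp at h
      rename_i hsrc
      refine ih _ _ _ _ start res (el_mul' hl hfl).2 ht ?_ h
      rw [evalWord_append, (eval_step gv f.gen).1, ← (el_mul' hl hfl).1, map_mul, ← mul_assoc, he, mul_assoc,
        ← hsrc, hf, ← mul_assoc]
    · split at h
      case isFalse => simp at h
      rename_i htgt
      refine ih _ _ _ _ start res (el_mul' hl (el_inv' hfl).2).2 hs ?_ h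
      rw [evalWord_append, (eval_step gv f.gen).2, ← (el_mul' hl (el_inv' hfl).2).1, ← (el_inv' hfl).1,
        map_mul, map_inv, ← mul_assoc, he, mul_assoc, ← htgt]
      have hf' : R f.tgt = (ι (el f.lab))⁻¹ * (R f.src * genVal gv f.gen) := by rw [hf]; group
      rw [hf']
      group

theorem checkOne_sound {ι : M →* G} {gv : ℕ → G} {rels : List (List ℕ)} (hI : Interp ι gv rels) (K : Cert)
    (hK : K.rels = rels) {i cnt s cnt' : ℕ} {R : ℕ → G} (h0 : R 0 = 1) (hcnt : 0 < cnt)
    (hR : ∀ k < i, Holds ι gv R (K.fact k) ∧ (K.fact k).src < cnt ∧ (K.fact k).tgt < cnt)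
    (h : K.checkOne i cnt s = some cnt') :
    ∃ R' : ℕ → G, R' 0 = 1 ∧ 0 < cnt' ∧
      ∀ k < i + 1, Holds ι gv R' (K.fact k) ∧ (K.fact k).src < cnt' ∧ (K.fact k).tgt < cnt' := by
  classical
  have key : ∀ (R' : ℕ → G) (c' : ℕ), cnt ≤ c' → R' 0 = 1 → (∀ p < cnt, R' p = R p) →
      (Holds ι gv R' (K.fact i) ∧ (K.fact i).src < c' ∧ (K.fact i).tgt < c') →
      ∃ R'' : ℕ → G, R'' 0 = 1 ∧ 0 < c' ∧
        ∀ k < i + 1, Holds ι gv R'' (K.fact k) ∧ (K.fact k).src < c' ∧ (K.fact k).tgt < c' := by
    intro R' c' hle h1 hag hi
    refine ⟨R', h1, by omega, fun k hk => ?_⟩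
    rcases Nat.lt_succ_iff_lt_or_eq.1 hk with hk | rfl
    · obtain ⟨⟨e, hl⟩, hs, ht⟩ := hR k hk
      exact ⟨⟨by rw [hag _ hs, hag _ ht]; exact e, hl⟩, by omega, by omega⟩
    · exact hi
  simp only [Cert.checkOne] at h
  split at h
  · simp at h
  rename_i hlab
  have hlab' : (K.fact i).lab < 120 := by omega
  split at h
  · split at h
    case isFalse => simp at h
    rename_i hf
    obtain ⟨hs, ht, hg, hl⟩ := hf
    cases h
    refine key R cnt le_rfl h0 (fun _ _ => rfl) ⟨⟨?_, hlab'⟩, by omega, by omega⟩
    rw [hs, ht, h0, one_mul, mul_one, genVal, if_pos (by omega), hI.gen _ hg, hl]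
  split at h
  · split at h
    case isFalse => simp at h
    rename_i hf
    obtain ⟨hl, hg⟩ := hf
    split at h
    · split at h
      case isFalse => simp at h
      rename_i hst
      obtain ⟨ht, hs⟩ := hst
      cases h
      refine key (Function.update R cnt (R (K.fact i).src * genVal gv (K.fact i).gen)) (cnt + 1) (by omega)
        (by rw [Function.update_of_ne (by omega)]; exact h0)
        (fun p hp => Function.update_of_ne (by omega) _ _) ⟨⟨?_, hlab'⟩, by omega, by omega⟩
      rw [Function.update_of_ne (by omega), ht, Function.update_self, hl, el_zero, map_one, one_mul]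
    · split at h
      case isFalse => simp at h
      rename_i hst
      obtain ⟨hs, ht⟩ := hst
      cases h
      refine key (Function.update R cnt (R (K.fact i).tgt * (genVal gv (K.fact i).gen)⁻¹)) (cnt + 1) (by omega)
        (by rw [Function.update_of_ne (by omega)]; exact h0)
        (fun p hp => Function.update_of_ne (by omega) _ _) ⟨⟨?_, hlab'⟩, by omega, by omega⟩
      rw [hs, Function.update_self, Function.update_of_ne (by omega), hl, el_zero, map_one, one_mul,
        inv_mul_cancel_right]
  split at h
  · simp at h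
  rename_i hlen
  split at h
  · simp at h
  rename_i cur lab w hw
  have hword : evalWord gv
      ((if (s >>> 14) % 2 = 0 then K.rels.getD ((s >>> 2) % 64) [] else invWord (K.rels.getD ((s >>> 2) % 64) [])).rotate
        ((s >>> 8) % 64)) = 1 := by
    have hb : evalWord gv (K.rels.getD ((s >>> 2) % 64) []) = 1 := by
      rcases Nat.lt_or_ge ((s >>> 2) % 64) K.rels.length with hlt | hge
      · refine hI.rel _ (hK ▸ ?_)
        rw [List.getD_eq_getElem _ _ hlt]
        exact List.getElem_mem _
      · rw [List.getD_eq_default _ _ hge]; rfl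
    refine evalWord_rotate gv ?_ _
    split
    · exact hb
    · rw [evalWord_invWord, hb, inv_one]
  set word := (if (s >>> 14) % 2 = 0 then K.rels.getD ((s >>> 2) % 64) [] else
    invWord (K.rels.getD ((s >>> 2) % 64) [])).rotate ((s >>> 8) % 64) with hwd
  set v := s >>> 21 with hv
  set start := (if v % 32768 % 2 = 0 then (K.fact (v % 32768 / 2)).src else (K.fact (v % 32768 / 2)).tgt) with hst
  have hstart : start < cnt := by
    obtain ⟨m, hm⟩ := Nat.exists_eq_succ_of_ne_zero hlen
    rw [hm] at hw
    simp only [Cert.walk] at hw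
    split at hw
    case isFalse => simp at hw
    rename_i hlt
    obtain ⟨-, a, b⟩ := hR _ hlt
    rw [hst]
    split <;> assumption
  obtain ⟨he, hll, hcc⟩ := walk_sound K hR _ _ start 0 [] start (cur, lab, w) (by norm_num) hstart
    (by rw [evalWord, mul_one, el_zero, map_one, one_mul]) hw
  simp only at he hll hcc
  have hinv := el_inv' hll
  split at h
  · split at h
    case isFalse => simp at h
    rename_i hf
    obtain ⟨hwe, hg, hs, ht, hl⟩ := hf
    cases h
    refine key R cnt le_rfl h0 (fun _ _ => rfl) ⟨⟨?_, hlab'⟩, by omega, by omega⟩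
    rw [hwe, hword, mul_one] at he
    rw [genVal, if_neg (by omega), mul_one, hs, ht, hl, ← hinv.1, map_inv, he, inv_mul_cancel_left]
  · split at h
    case isFalse => simp at h
    rename_i hf
    obtain ⟨hwe, hg, hg4⟩ := hf
    rw [← hwe, evalWord_append, evalWord, evalWord, mul_one, mul_eq_one_iff_eq_inv] at hword
    split at h
    · rename_i hev
      split at h
      case isFalse => simp at h
      rename_i hf'
      obtain ⟨hs, ht, hl⟩ := hf'
      cases h
      refine key R cnt le_rfl h0 (fun _ _ => rfl) ⟨⟨?_, hlab'⟩, by omega, by omega⟩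
      rw [letterVal, if_pos hev, ← hg] at hword
      rw [hword] at he
      rw [genVal, if_pos hg4, hs, ht, hl, ← hinv.1, map_inv]
      have : R start = ι (el lab) * R cur * gv (K.fact i).gen := by rw [← he]; group
      rw [this]; group
    · rename_i hev
      split at h
      case isFalse => simp at h
      rename_i hf'
      obtain ⟨hs, ht, hl⟩ := hf'
      cases h
      refine key R cnt le_rfl h0 (fun _ _ => rfl) ⟨⟨?_, hlab'⟩, by omega, by omega⟩
      rw [letterVal, if_neg hev, ← hg, inv_inv] at hword
      rw [hword] at he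
      rw [genVal, if_pos hg4, hs, ht, hl, he]

theorem run_sound {ι : M →* G} {gv : ℕ → G} {rels : List (List ℕ)} (hI : Interp ι gv rels) (K : Cert)
    (hK : K.rels = rels) : ∀ (l : List ℕ) (i cnt size : ℕ) (R : ℕ → G), R 0 = 1 → 0 < cnt →
      (∀ k < i, Holds ι gv R (K.fact k) ∧ (K.fact k).src < cnt ∧ (K.fact k).tgt < cnt) →
      K.run l i cnt = some size → ∃ R' : ℕ → G, R' 0 = 1 ∧ ∀ k < size, Holds ι gv R' (K.fact k) := by
  intro l
  induction l with
  | nil =>
    intro i cnt size R h0 _ hR h
    simp only [Cert.run, Option.some.injEq] at h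
    subst h
    exact ⟨R, h0, fun k hk => (hR k hk).1⟩
  | cons s l ih =>
    intro i cnt size R h0 hc hR h
    simp only [Cert.run] at h
    split at h
    · simp at h
    rename_i c hcq
    obtain ⟨R', h0', hc', hR'⟩ := checkOne_sound hI K hK h0 hc hR hcq
    exact ih _ _ _ R' h0' hc' hR' h

/-- The facts of a checked certificate hold in every group satisfying the relators. -/
theorem sound {ι : M →* G} {gv : ℕ → G} {rels : List (List ℕ)} (hI : Interp ι gv rels) (K : Cert)
    (hK : K.rels = rels) {size : ℕ} (h : K.ok size = true) :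
    ∃ R : ℕ → G, R 0 = 1 ∧ ∀ k < size, Holds ι gv R (K.fact k) :=
  run_sound hI K hK _ 0 1 size (fun _ => 1) rfl one_pos (fun _ hk => absurd hk (Nat.not_lt_zero _))
    (beq_iff_eq.1 h)

end Cfsg.Agent.JankoOne.Cert
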