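import Cfsg.Agent.Lib.JankoOne.Cert.Case0
import Mathlib.Algebra.BigOperators.Group.Finset.Basic
import Mathlib.Data.Nat.Bitwise

/-!
The coset table of degree 1463 cut out by the certificate of the first case, and the sizes of unions of
suborbits of the centraliser.
-/

set_option autoImplicit false

namespace Cfsg.Agent.JankoOne.Cert

/-- An entry of a packed table. -/
def get (d : List (List ℕ)) (bits i : ℕ) : ℕ :=
  ((d.getD (i / 512) []).getD (i / 32 % 16) 0 >>> (bits * (i % 32))) % 2 ^ bits

/-- The surviving cosets. -/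
def liveC (i : ℕ) : ℕ := get Data.Case0.live 14 i

/-- The fact giving an edge. -/
def edge (g i : ℕ) : ℕ := get Data.Case0.edges 14 (4 * i + g)

/-- The permutation of a generator. -/
def nextC (g i : ℕ) : ℕ := ((Data.Case0.next.getD 0 []).getD g 0 >>> (11 * i)) % 2048

/-- Its inverse. -/
def prevC (g i : ℕ) : ℕ := ((Data.Case0.prev.getD 0 []).getD g 0 >>> (11 * i)) % 2048

/-- The orbit label. -/
def orbLab (i : ℕ) : ℕ := get Data.Case0.orbits 27 i % 32

/-- The last generator on the way from the root. -/
def orbGen (i : ℕ) : ℕ := (get Data.Case0.orbits 27 i >>> 5) % 8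

/-- The predecessor. -/
def orbPar (i : ℕ) : ℕ := (get Data.Case0.orbits 27 i >>> 8) % 2048

/-- The distance from the root. -/
def orbDepth (i : ℕ) : ℕ := get Data.Case0.orbits 27 i >>> 19

/-- The roots of the suborbits. -/
def roots : List ℕ :=
  [0, 1, 2, 16, 17, 27, 28, 33, 34, 39, 40, 70, 71, 76, 77, 159, 163, 315, 369, 420, 437, 536]

/-- The lengths of the suborbits. -/
def orbSize (k : ℕ) : ℕ :=
  [1, 15, 15, 60, 12, 20, 60, 60, 60, 60, 60, 20, 60, 60, 60, 120, 120, 120, 120, 120, 120, 120].getD k 0

/-- The check of the edges. -/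
def edgeOk : Bool :=
  (List.range 1463).all fun i => (List.range 4).all fun g =>
    decide (edge g i < Data.Case0.size ∧ (cert0.fact (edge g i)).src = liveC i ∧
      (cert0.fact (edge g i)).tgt = liveC (nextC g i) ∧ (cert0.fact (edge g i)).gen = g ∧
      nextC g i < 1463 ∧ prevC g i < 1463 ∧ nextC g (prevC g i) = i ∧ prevC g (nextC g i) = i)

theorem edgeOk_eq : edgeOk = true := by decide +kernel

theorem edge_spec {g i : ℕ} (hg : g < 4) (hi : i < 1463) :
    edge g i < Data.Case0.size ∧ (cert0.fact (edge g i)).src = liveC i ∧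
      (cert0.fact (edge g i)).tgt = liveC (nextC g i) ∧ (cert0.fact (edge g i)).gen = g ∧
      nextC g i < 1463 ∧ prevC g i < 1463 ∧ nextC g (prevC g i) = i ∧ prevC g (nextC g i) = i :=
  of_decide_eq_true (List.all_eq_true.1 (List.all_eq_true.1 edgeOk_eq i (List.mem_range.2 hi)) g
    (List.mem_range.2 hg))

theorem liveC_zero : liveC 0 = 0 := by decide +kernel

/-- The check of the suborbit data. -/
def orbOk : Bool :=
  (List.range 1463).all fun i =>
    decide (orbLab i < 22 ∧ if orbGen i = 7 then i = roots.getD (orbLab i) 0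
      else orbGen i < 3 ∧ orbPar i < 1463 ∧ nextC (orbGen i) (orbPar i) = i ∧
        orbLab (orbPar i) = orbLab i ∧ orbDepth (orbPar i) < orbDepth i)

theorem orbOk_eq : orbOk = true := by decide +kernel

theorem orb_spec {i : ℕ} (hi : i < 1463) :
    orbLab i < 22 ∧ if orbGen i = 7 then i = roots.getD (orbLab i) 0
      else orbGen i < 3 ∧ orbPar i < 1463 ∧ nextC (orbGen i) (orbPar i) = i ∧
        orbLab (orbPar i) = orbLab i ∧ orbDepth (orbPar i) < orbDepth i :=
  of_decide_eq_true (List.all_eq_true.1 orbOk_eq i (List.mem_range.2 hi))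

theorem orb_count : ∀ k : Fin 22,
    ((Finset.range 1463).filter fun i => orbLab i = k).card = orbSize k := by decide +kernel

/-- The bit set of the possible subset sums. -/
def sumBits (f : ℕ → ℕ) : ℕ → ℕ
  | 0 => 1
  | n + 1 => sumBits f n ||| (sumBits f n <<< f n)

theorem testBit_sumBits (f : ℕ → ℕ) : ∀ (n : ℕ) (S : Finset ℕ), S ⊆ Finset.range n →
    (sumBits f n).testBit (∑ k ∈ S, f k) = true := by
  intro n
  induction n with
  | zero =>
    intro S hS
    have : S = ∅ := Finset.subset_empty.1 (by simpa using hS)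
    subst this
    simp [sumBits]
  | succ n ih =>
    intro S hS
    rw [Finset.range_add_one] at hS
    rw [sumBits, Nat.testBit_or]
    by_cases hn : n ∈ S
    · have h := ih (S.erase n) (fun x hx => by
        obtain ⟨h1, h2⟩ := Finset.mem_erase.1 hx
        rcases Finset.mem_insert.1 (hS h2) with h | h
        · exact absurd h h1
        · exact h)
      rw [← Finset.add_sum_erase _ _ hn, Nat.testBit_shiftLeft]
      simp [h]
    · rw [ih S (fun x hx => by
        rcases Finset.mem_insert.1 (hS hx) with h | h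
        · exact absurd (h ▸ hx) hn
        · exact h)]
      rfl

theorem sumBits_not : (sumBits orbSize 22).testBit 11 = false ∧ (sumBits orbSize 22).testBit 19 = false ∧
    (sumBits orbSize 22).testBit 209 = false := by decide +kernel

theorem fibre_card (F : Finset ℕ) (hF : F ⊆ Finset.range 1463)
    (hst : ∀ g < 3, ∀ i < 1463, i ∈ F ↔ nextC g i ∈ F) :
    F.card ≠ 11 ∧ F.card ≠ 19 ∧ F.card ≠ 209 := by
  have hroot : ∀ d : ℕ, ∀ i < 1463, orbDepth i = d → (i ∈ F ↔ roots.getD (orbLab i) 0 ∈ F) := by
    intro d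
    induction d using Nat.strong_induction_on with
    | _ d ih =>
      intro i hi hd
      obtain ⟨-, h⟩ := orb_spec hi
      split at h
      · rw [← h]
      · obtain ⟨hg, hp, hn, hl, hlt⟩ := h
        rw [← hl, ← ih _ (hd ▸ hlt) _ hp rfl, hst _ hg _ hp, hn]
  let S : Finset ℕ := (Finset.range 22).filter fun k => roots.getD k 0 ∈ F
  have hFeq : F = (Finset.range 1463).filter fun i => orbLab i ∈ S := by
    ext i
    rw [Finset.mem_filter, Finset.mem_range]
    constructor
    · intro h
      have hi := Finset.mem_range.1 (hF h)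
      exact ⟨hi, Finset.mem_filter.2 ⟨Finset.mem_range.2 (orb_spec hi).1, (hroot _ i hi rfl).1 h⟩⟩
    · rintro ⟨hi, h⟩
      exact (hroot _ i hi rfl).2 (Finset.mem_filter.1 h).2
  have hcard : F.card = ∑ k ∈ S, orbSize k := by
    rw [hFeq]
    refine (Finset.card_eq_sum_card_fiberwise (f := orbLab) (t := S) fun i hi => ?_).trans
      (Finset.sum_congr rfl fun k hk => ?_)
    · exact (Finset.mem_filter.1 hi).2
    have hk22 := Finset.mem_range.1 (Finset.mem_filter.1 hk).1
    rw [Finset.filter_filter]
    refine (congrArg Finset.card (Finset.filter_congr fun i _ => ?_)).trans (orb_count ⟨k, hk22⟩)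
    exact ⟨fun h => h.2, fun h => ⟨(show orbLab i = k from h) ▸ hk, h⟩⟩
  have hbit := testBit_sumBits orbSize 22 S (Finset.filter_subset _ _)
  rw [← hcard] at hbit
  obtain ⟨h11, h19, h209⟩ := sumBits_not
  refine ⟨?_, ?_, ?_⟩ <;> intro h <;> rw [h] at hbit <;> simp_all

end Cfsg.Agent.JankoOne.Cert
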